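import Groth.Agent.Lib.Goodman.Degree
import Groth.Agent.Lib.LeffAmp7.Data
import Groth.Agent.Lib.ProjFormula.Map
import Groth.Agent.Lib.Ref1.Tensor
import Groth.Agent.Lib.FPQuot20.Main

/-!
# Tensor calculus on stalks
-/

set_option autoImplicit false
set_option backward.isDefEq.respectTransparency false
set_option linter.all false

universe u

open CategoryTheory CategoryTheory.Limits AlgebraicGeometry TopologicalSpace Opposite TensorProduct

noncomputable section

namespace GrothLib.FPGen24

open GrothLib.QCoh (stalkLin)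

variable {X : Scheme.{u}}

/-- The tensor product of two morphisms. -/
def tens {A A' B B' : X.Modules} (f : A ⟶ A') (g : B ⟶ B') : CohB1.tensorMod A B ⟶ CohB1.tensorMod A' B' :=
  ((DCoh.tensorBi (X := X)).map f).app B ≫ ((DCoh.tensorBi (X := X)).obj A').map g

theorem stalkLin_id (M : X.Modules) (x : X) (a : M.presheaf.stalk x) : stalkLin (𝟙 M) x a = a :=
  LinearMap.congr_fun (congrArg ModuleCat.Hom.hom ((OX.stalk x).map_id M)) (show (OX.stalk x).obj M from a)

theorem stalkLin_tens {A A' B B' : X.Modules} (f : A ⟶ A') (g : B ⟶ B') (x : X) (a : A.presheaf.stalk x)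
    (b : B.presheaf.stalk x) :
    stalkLin (tens f g) x (Ref1.tmulStalk A B x a b) =
      Ref1.tmulStalk A' B' x (stalkLin f x a) (stalkLin g x b) := by
  refine (HodgeIndex.stalkLin_comp_apply _ _ _ _).trans ?_
  exact (congrArg _ (LeffAmp7.stalkLin_tmul_left f B x a b)).trans (Goodman.stalkLin_tensor_tmul A' g x _ b)

theorem tens_induction {A B : X.Modules} {x : X} {P : (CohB1.tensorMod A B).presheaf.stalk x → Prop}
    (h0 : P 0) (h1 : ∀ a b, P (Ref1.tmulStalk A B x a b)) (h2 : ∀ u v, P u → P v → P (u + v))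
    (z : (CohB1.tensorMod A B).presheaf.stalk x) : P z := by
  obtain ⟨w, rfl⟩ := (Ref1.tensorStalk A B x).symm.surjective z
  induction w using TensorProduct.induction_on with
  | zero => rw [map_zero]; exact h0
  | tmul a b => exact h1 a b
  | add u v hu hv => rw [map_add]; exact h2 _ _ hu hv

theorem surjective_tens {A A' B B' : X.Modules} {f : A ⟶ A'} {g : B ⟶ B'} {x : X}
    (hf : Function.Surjective (stalkLin f x)) (hg : Function.Surjective (stalkLin g x)) :
    Function.Surjective (stalkLin (tens f g) x) := fun z => by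
  refine tens_induction (P := fun z => ∃ w, stalkLin (tens f g) x w = z) ⟨0, map_zero _⟩ (fun a b => ?_) ?_ z
  · obtain ⟨a, rfl⟩ := hf a
    obtain ⟨b, rfl⟩ := hg b
    exact ⟨_, stalkLin_tens f g x a b⟩
  · rintro u v ⟨w, rfl⟩ ⟨w', rfl⟩
    exact ⟨w + w', map_add _ _ _⟩

/-- The scalar of a germ of the structure module. -/
def scal (x : X) : (Coh.structureModule X).presheaf.stalk x ≃ₗ[X.presheaf.stalk x] X.presheaf.stalk x :=
  (HomSh.unitStalk x).symm

/-- The scalar multiplication `O ⊗ M ⟶ M`. -/
abbrev act (M : X.Modules) : CohB1.tensorMod (Coh.structureModule X) M ⟶ M := (OX.tensorUnitLeftIso M).hom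

theorem stalkLin_act (M : X.Modules) (x : X) (a : (Coh.structureModule X).presheaf.stalk x)
    (m : M.presheaf.stalk x) :
    stalkLin (act M) x (Ref1.tmulStalk (Coh.structureModule X) M x a m) = scal x a • m := by
  obtain ⟨U, hx, m, rfl⟩ := TopCat.Presheaf.exists_germ_eq M.presheaf m
  have h1 : stalkLin (act M) x (Ref1.tmulStalk (Coh.structureModule X) M x
      ((Coh.structureModule X).presheaf.germ U x hx (FinCov.one X U)) (M.presheaf.germ U x hx m)) =
      M.presheaf.germ U x hx m := by
    rw [← Ref1.germ_tmul]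
    refine (QCoh.stalkLin_germ (act M) hx _).trans (congrArg (M.presheaf.germ U x hx) ?_)
    exact (ProjFormula.tensorUnitLeftIso_tmulSec M U (1 : Γ(X, U)) m).trans (one_smul _ _)
  have h2 : (Coh.structureModule X).presheaf.germ U x hx (FinCov.one X U) = HomSh.unitStalk x 1 := by
    show _ = (1 : X.presheaf.stalk x) • ((Coh.structureModule X).presheaf.germ ⊤ x trivial (1 : Γ(X, ⊤)))
    rw [one_smul, ← TopCat.Presheaf.germ_res_apply (Coh.structureModule X).presheaf (homOfLE le_top) x hx
      (show Γ(Coh.structureModule X, ⊤) from (1 : Γ(X, ⊤)))]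
    exact congrArg ((Coh.structureModule X).presheaf.germ U x hx) (map_one (X.presheaf.map _).hom).symm
  have h3 : a = scal x a • HomSh.unitStalk x 1 := by
    rw [← map_smul, smul_eq_mul, mul_one]
    exact ((HomSh.unitStalk x).apply_symm_apply a).symm
  conv_lhs => rw [h3, map_smul, LinearMap.smul_apply, map_smul, ← h2, h1]

theorem scal_act (x : X) (a b : (Coh.structureModule X).presheaf.stalk x) :
    scal x (stalkLin (act (Coh.structureModule X)) x
      (Ref1.tmulStalk (Coh.structureModule X) (Coh.structureModule X) x a b)) = scal x a * scal x b := by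
  rw [stalkLin_act, map_smul, smul_eq_mul]

/-- `a ⊗ m ↦ p(a) m`. -/
def pair {A B M : X.Modules} (p : A ⟶ Coh.structureModule X) (g : B ⟶ M) : CohB1.tensorMod A B ⟶ M :=
  tens p g ≫ act M

theorem stalkLin_pair {A B M : X.Modules} (p : A ⟶ Coh.structureModule X) (g : B ⟶ M) (x : X)
    (a : A.presheaf.stalk x) (b : B.presheaf.stalk x) :
    stalkLin (pair p g) x (Ref1.tmulStalk A B x a b) = scal x (stalkLin p x a) • stalkLin g x b := by
  rw [pair, HodgeIndex.stalkLin_comp_apply, stalkLin_tens, stalkLin_act]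

/-- The ideal of values of a map to the structure module. -/
def val {A : X.Modules} (p : A ⟶ Coh.structureModule X) (x : X) : Ideal (X.presheaf.stalk x) :=
  LinearMap.range ((scal x).toLinearMap.comp (stalkLin p x))

theorem mem_val {A : X.Modules} (p : A ⟶ Coh.structureModule X) (x : X) (a : A.presheaf.stalk x) :
    scal x (stalkLin p x a) ∈ val p x := ⟨a, rfl⟩

theorem val_eq_top {A : X.Modules} {p : A ⟶ Coh.structureModule X} {x : X}
    (h : Function.Surjective (stalkLin p x)) : val p x = ⊤ :=
  LinearMap.range_eq_top.2 ((scal x).surjective.comp h)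

theorem surjective_of_val_eq_top {A : X.Modules} {p : A ⟶ Coh.structureModule X} {x : X}
    (h : val p x = ⊤) : Function.Surjective (stalkLin p x) := fun a => by
  obtain ⟨b, hb⟩ := (LinearMap.range_eq_top.1 h) (scal x a)
  exact ⟨b, (scal x).injective hb⟩

theorem val_pair_le {A B : X.Modules} (p : A ⟶ Coh.structureModule X) (q : B ⟶ Coh.structureModule X) (x : X) :
    val (pair p q) x ≤ val p x * val q x := by
  rintro _ ⟨z, rfl⟩
  refine tens_induction (P := fun z => scal x (stalkLin (pair p q) x z) ∈ val p x * val q x)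
    (by simp) (fun a b => ?_) (fun u v hu hv => by simpa using add_mem hu hv) z
  rw [stalkLin_pair, map_smul, smul_eq_mul]
  exact Ideal.mul_mem_mul (mem_val p x a) (mem_val q x b)

theorem mul_le_val_pair {A B : X.Modules} (p : A ⟶ Coh.structureModule X) (q : B ⟶ Coh.structureModule X) (x : X) :
    val p x * val q x ≤ val (pair p q) x := by
  refine Ideal.mul_le.2 ?_
  rintro _ ⟨a, rfl⟩ _ ⟨b, rfl⟩
  refine ⟨Ref1.tmulStalk A B x a b, ?_⟩
  show scal x (stalkLin (pair p q) x _) = _
  rw [stalkLin_pair, map_smul, smul_eq_mul]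
  rfl

/-- Powers of a map to the structure module. -/
def pw {G : X.Modules} (ψ : G ⟶ Coh.structureModule X) : ∀ n, CohB1.tensorPow G n ⟶ Coh.structureModule X
  | 0 => 𝟙 _
  | n + 1 => pair (pw ψ n) ψ

theorem val_pw {G : X.Modules} (ψ : G ⟶ Coh.structureModule X) (x : X) : ∀ n, val (pw ψ n) x = val ψ x ^ n
  | 0 => by
    rw [pow_zero, Ideal.one_eq_top]
    exact val_eq_top fun a => ⟨a, stalkLin_id _ x a⟩
  | n + 1 => by
    rw [pow_succ, ← val_pw ψ x n]
    exact le_antisymm (val_pair_le _ _ x) (mul_le_val_pair _ _ x)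

/-- Powers of a morphism. -/
def tpMap {A B : X.Modules} (f : A ⟶ B) : ∀ n, CohB1.tensorPow A n ⟶ CohB1.tensorPow B n
  | 0 => 𝟙 _
  | n + 1 => tens (tpMap f n) f

theorem surjective_tpMap {A B : X.Modules} {f : A ⟶ B} {x : X} (hf : Function.Surjective (stalkLin f x)) :
    ∀ n, Function.Surjective (stalkLin (tpMap f n) x)
  | 0 => fun a => ⟨a, stalkLin_id _ x a⟩
  | n + 1 => surjective_tens (surjective_tpMap hf n) hf

theorem surjective_stalkLin_of_epi {A B : X.Modules} (f : A ⟶ B) [Epi f] (x : X) :
    Function.Surjective (stalkLin f x) := QCoh.stalkLin_surjective f x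

theorem epi_of_surjective {A B : X.Modules} (f : A ⟶ B) (h : ∀ x, Function.Surjective (stalkLin f x)) : Epi f :=
  (OX.epi_iff f).2 fun x => (ModuleCat.epi_iff_surjective _).2 (h x)

end GrothLib.FPGen24
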