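import Groth.Agent.Lib.FPGen24.Main
import Groth.Agent.Lib.LeffAmp7.Bundle

/-!
# The extension of sections by tensor powers
-/

set_option autoImplicit false
set_option backward.isDefEq.respectTransparency false
set_option linter.all false
set_option maxHeartbeats 1000000

universe u

open CategoryTheory CategoryTheory.Limits AlgebraicGeometry TopologicalSpace Opposite TensorProduct

noncomputable section

namespace GrothLib.FPGen24

open GrothLib.QCoh (stalkLin)

variable {X : Scheme.{u}}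

theorem tensorStalk_tens {A A' B B' : X.Modules} (f : A ⟶ A') (g : B ⟶ B') (x : X)
    (z : (CohB1.tensorMod A B).presheaf.stalk x) :
    Ref1.tensorStalk A' B' x (stalkLin (tens f g) x z) =
      TensorProduct.map (stalkLin f x) (stalkLin g x) (Ref1.tensorStalk A B x z) := by
  induction z using tens_induction with
  | h0 => simp
  | h1 a b => rw [stalkLin_tens, Ref1.tensorStalk_tmulStalk, Ref1.tensorStalk_tmulStalk, TensorProduct.map_tmul]
  | h2 u v hu hv => rw [map_add, map_add, map_add, map_add, hu, hv]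

theorem map_eq_zero_of_symm {R : Type*} [CommRing R] {N Q M : Type*} [AddCommGroup N] [Module R N] [AddCommGroup Q]
    [Module R Q] [AddCommGroup M] [Module R M] (e : N →ₗ[R] Q) (he : Function.Surjective e)
    (μ : N ⊗[R] N →ₗ[R] M) (h₁ : ∀ a b, e a = 0 → μ (a ⊗ₜ b) = 0) (h₂ : ∀ a b, e b = 0 → μ (a ⊗ₜ b) = 0)
    (z : N ⊗[R] N) (hz : TensorProduct.map e e z = 0) : μ z = 0 := by
  have hex : Function.Exact (LinearMap.ker e).subtype e := LinearMap.exact_subtype_ker_map e
  have hz' : z ∈ LinearMap.ker (TensorProduct.map e e) := hz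
  rw [TensorProduct.map_ker hex he hex he] at hz'
  obtain ⟨u, ⟨u, rfl⟩, v, ⟨v, rfl⟩, rfl⟩ := Submodule.mem_sup.1 hz'
  have hu : μ.comp (LinearMap.lTensor N (LinearMap.ker e).subtype) = 0 :=
    TensorProduct.ext' fun a b => h₂ a b.1 b.2
  have hv : μ.comp (LinearMap.rTensor N (LinearMap.ker e).subtype) = 0 :=
    TensorProduct.ext' fun a b => h₁ a.1 b a.2
  rw [map_add]
  exact (congrArg₂ (· + ·) (LinearMap.congr_fun hu u) (LinearMap.congr_fun hv v)).trans (add_zero _)

/-- A finitely many affine opens cover a quasi-compact scheme. -/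
theorem exists_uniform {U : X.Opens} [CompactSpace X] (C : Cut U) {M : X.Modules} [M.IsQuasicoherent] {s : Γ(M, U)}
    (L : Lift U M s) :
    ∃ c : ℕ, ∀ x : X, val C.ψ x ^ c ≤ val L.π x ∧ ∀ a b : L.N.presheaf.stalk x, ∀ r ∈ val C.ψ x ^ c,
        r • (scal x (stalkLin L.π x a) • stalkLin L.ρ x b - scal x (stalkLin L.π x b) • stalkLin L.ρ x a) = 0 := by
  classical
  obtain ⟨κ, _, W, hW, -, hcov⟩ := QCoh.exists_finite_affine_cover (U := (⊤ : X.Opens)) isCompact_univ
  haveI := Fintype.ofFinite κ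
  choose c hc using fun k => exists_common_bound C (hW k) L
  refine ⟨Finset.univ.sup c, fun x => ?_⟩
  obtain ⟨k, hk⟩ := Opens.mem_iSup.1 (hcov (Opens.mem_top x))
  have hle : c k ≤ Finset.univ.sup c := Finset.le_sup (Finset.mem_univ k)
  exact ⟨(Ideal.pow_le_pow_right hle).trans (hc k x hk).1,
    fun a b r hr => (hc k x hk).2 a b r (Ideal.pow_le_pow_right hle hr)⟩

/-- **Sections over the open extend to maps out of large tensor powers.** -/
theorem exists_map [CompactSpace X] [QuasiSeparatedSpace X] {U : X.Opens} (hU : IsCompact (U : Set X)) (C : Cut U)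
    (M : X.Modules) [M.IsQuasicoherent] (s : Γ(M, U)) :
    ∃ n₀ : ℕ, ∀ n, n₀ ≤ n → ∃ φ : CohB1.tensorPow C.G n ⟶ M, ∀ (x : X) (hx : x ∈ U),
      ∃ g, stalkLin φ x g = M.presheaf.germ U x hx s := by
  obtain ⟨L⟩ := exists_lift U hU M s
  obtain ⟨c, hc⟩ := exists_uniform C L
  let π₂ := pair (pw C.ψ c) L.π
  let ρ₂ := pair (pw C.ψ c) L.ρ
  let μ := pair π₂ ρ₂
  let e := Abelian.factorThruImage π₂
  let ι := Abelian.image.ι π₂
  have hι : ∀ x v, stalkLin ι x (stalkLin e x v) = stalkLin π₂ x v := fun x v =>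
    (HodgeIndex.stalkLin_comp_apply e ι x v).symm.trans
      (congrArg (fun k => stalkLin k x v) (Abelian.image.fac π₂))
  have hinj : ∀ x, Function.Injective (stalkLin ι x) := fun x => QCoh.stalkLin_injective ι x
  have hesurj : ∀ x, Function.Surjective (stalkLin e x) := fun x => surjective_stalkLin_of_epi e x
  -- symmetry
  have hsymm : ∀ x t t', scal x (stalkLin π₂ x t) • stalkLin ρ₂ x t' = scal x (stalkLin π₂ x t') • stalkLin ρ₂ x t := by
    intro x t t'
    induction t using tens_induction with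
    | h0 => simp
    | h2 u v hu hv => simp only [map_add, add_smul, smul_add, hu, hv]
    | h1 g a =>
      induction t' using tens_induction with
      | h0 => simp
      | h2 u v hu hv => simp only [map_add, add_smul, smul_add, hu, hv]
      | h1 g' a' =>
        simp only [π₂, ρ₂, stalkLin_pair, map_smul, smul_eq_mul, smul_smul]
        set p := scal x (stalkLin (pw C.ψ c) x g)
        set p' := scal x (stalkLin (pw C.ψ c) x g')
        have hp : p * p' ∈ val C.ψ x ^ c := Ideal.mul_mem_right _ _ (val_pw C.ψ x c ▸ mem_val _ _ _)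
        have h := (hc x).2 a a' (p * p') hp
        rw [smul_sub, sub_eq_zero, smul_smul, smul_smul] at h
        linear_combination (norm := module) h
  have hker : kernel.ι (tens e e) ≫ μ = 0 := by
    refine LeffAmp7.stalkLin_map_eq_zero _ fun x z => ?_
    rw [HodgeIndex.stalkLin_comp_apply]
    have hz : TensorProduct.map (stalkLin e x) (stalkLin e x)
        (Ref1.tensorStalk _ _ x (stalkLin (kernel.ι (tens e e)) x z)) = 0 := by
      rw [← tensorStalk_tens, ← HodgeIndex.stalkLin_comp_apply, kernel.condition, Kodaira.stalkLin_zero_apply,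
        map_zero]
    have h0 : ∀ a b, (stalkLin μ x).comp (Ref1.tensorStalk _ _ x).symm.toLinearMap (a ⊗ₜ b) =
        scal x (stalkLin π₂ x a) • stalkLin ρ₂ x b := fun a b => stalkLin_pair π₂ ρ₂ x a b
    have h := map_eq_zero_of_symm (stalkLin e x) (hesurj x)
      ((stalkLin μ x).comp (Ref1.tensorStalk _ _ x).symm.toLinearMap) (fun a b ha => ?_) (fun a b hb => ?_) _ hz
    · exact (congrArg (stalkLin μ x) ((Ref1.tensorStalk _ _ x).symm_apply_apply _)).symm.trans h
    · rw [h0, ← hι, ha, map_zero, map_zero, zero_smul]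
    · rw [h0, hsymm, ← hι, hb, map_zero, map_zero, zero_smul]
  haveI : Epi (tens e e) := epi_of_surjective _ fun x => surjective_tens (hesurj x) (hesurj x)
  let μ' := Abelian.epiDesc (tens e e) μ hker
  have hμ' : tens e e ≫ μ' = μ := Abelian.comp_epiDesc _ _ _
  have hrange : ∀ a, c + c ≤ a → pw C.ψ a ≫ cokernel.π π₂ = 0 := fun a ha => by
    refine LeffAmp7.stalkLin_map_eq_zero _ fun x g => ?_
    rw [HodgeIndex.stalkLin_comp_apply]
    have hmem : scal x (stalkLin (pw C.ψ a) x g) ∈ val π₂ x := by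
      refine mul_le_val_pair _ _ x ?_
      rw [val_pw]
      refine Ideal.mul_mono_right (hc x).1 ?_
      rw [← pow_add]
      exact Ideal.pow_le_pow_right ha (val_pw C.ψ x a ▸ mem_val _ _ _)
    obtain ⟨w, hw⟩ := hmem
    have hw' : stalkLin π₂ x w = stalkLin (pw C.ψ a) x g := (scal x).injective hw
    rw [← hw', ← HodgeIndex.stalkLin_comp_apply, cokernel.condition, Kodaira.stalkLin_zero_apply]
  refine ⟨(c + c) + (c + c), fun n hn => ?_⟩
  obtain ⟨i, rfl⟩ : ∃ i, n = (c + c) + i := ⟨n - (c + c), by omega⟩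
  let la : CohB1.tensorPow C.G (c + c) ⟶ Abelian.image π₂ := kernel.lift _ _ (hrange (c + c) le_rfl)
  let lb : CohB1.tensorPow C.G i ⟶ Abelian.image π₂ := kernel.lift _ _ (hrange i (by omega))
  obtain ⟨E⟩ := Snapper.nonempty_tensorPow_add C.G (c + c) i
  refine ⟨E.hom ≫ tens la lb ≫ μ', fun x hx => ?_⟩
  obtain ⟨v, hv1, hv2, -⟩ := L.frame x hx
  have hsurj : ∀ a, Function.Surjective (stalkLin (pw C.ψ a) x) := fun a => surjective_of_val_eq_top (by
    rw [val_pw, val_eq_top (C.surj x hx), Ideal.top_pow])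
  obtain ⟨g, hg⟩ := hsurj c (HomSh.unitStalk x 1)
  have hg1 : scal x (stalkLin (pw C.ψ c) x g) = 1 := by rw [hg]; exact (HomSh.unitStalk x).symm_apply_apply 1
  let t := Ref1.tmulStalk _ _ x g v
  have ht1 : scal x (stalkLin π₂ x t) = 1 := by
    simp only [π₂, t, stalkLin_pair, map_smul, hg1, hv1, one_smul]
  have ht2 : stalkLin ρ₂ x t = M.presheaf.germ U x hx s := by
    simp only [ρ₂, t, stalkLin_pair, hg1, hv2, one_smul]
  have hlift : ∀ (a : ℕ) (h : pw C.ψ a ≫ cokernel.π π₂ = 0), ∃ w, stalkLin (kernel.lift _ _ h) x w = stalkLin e x t :=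
    fun a h => by
      obtain ⟨w, hw⟩ := hsurj a (stalkLin π₂ x t)
      refine ⟨w, hinj x ?_⟩
      rw [hι, ← HodgeIndex.stalkLin_comp_apply]
      exact (congrArg (fun k => stalkLin k x w) (kernel.lift_ι (cokernel.π π₂) (pw C.ψ a) h)).trans hw
  obtain ⟨wa, hwa⟩ := hlift _ (hrange (c + c) le_rfl)
  obtain ⟨wb, hwb⟩ := hlift _ (hrange i (by omega))
  refine ⟨stalkLin E.inv x (Ref1.tmulStalk _ _ x wa wb), ?_⟩
  rw [HodgeIndex.stalkLin_comp_apply, HodgeIndex.stalkLin_comp_apply]
  have hE : stalkLin E.hom x (stalkLin E.inv x (Ref1.tmulStalk _ _ x wa wb)) = Ref1.tmulStalk _ _ x wa wb :=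
    (HodgeIndex.stalkLin_comp_apply E.inv E.hom x _).symm.trans
      ((congrArg (fun k => stalkLin k x _) E.inv_hom_id).trans (stalkLin_id _ x _))
  refine (congrArg (fun z => stalkLin μ' x (stalkLin (tens la lb) x z)) hE).trans ?_
  rw [stalkLin_tens, hwa, hwb, ← stalkLin_tens, ← HodgeIndex.stalkLin_comp_apply, hμ', stalkLin_pair, ht1, ht2,
    one_smul]

theorem exists_fp_cover {κ : Type u} (G : κ → X.Modules) (hG : ∀ k, CohB1.IsFP (G k)) :
    ∀ l : List κ, ∃ F : X.Modules, CohB1.IsFP F ∧ ∀ k ∈ l, ∃ p : F ⟶ G k, Epi p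
  | [] => ⟨Coh.structureModule X, GabRos20.isFP_structureModule X, fun k hk => absurd hk List.not_mem_nil⟩
  | a :: l => by
    obtain ⟨F, hF, h⟩ := exists_fp_cover G hG l
    refine ⟨G a ⊞ F, FPQuot20.isFP_biprod (hG a) hF, fun k hk => ?_⟩
    rcases List.mem_cons.1 hk with rfl | hk
    · exact ⟨biprod.fst, inferInstance⟩
    · obtain ⟨p, hp⟩ := h k hk
      exact ⟨biprod.snd ≫ p, epi_comp _ _⟩

/-- **Tensor powers of one finitely presented module generate.** -/
theorem exists_generator (X : Scheme.{u}) [CompactSpace X] [QuasiSeparatedSpace X] :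
    ∃ F : X.Modules, Coh.IsQCoh F ∧ CohB1.IsFP F ∧
      ∀ M : X.Modules, Coh.IsQCoh M → CohB1.IsFP M →
        ∃ n₀ m₀ : ℕ, ∀ n m : ℕ, n₀ ≤ n → m₀ ≤ m →
          ∃ π : (∐ fun _ : Fin m => CohB1.tensorPow F n) ⟶ M, Epi π := by
  classical
  obtain ⟨κ, _, W, hW, -, hcov⟩ := QCoh.exists_finite_affine_cover (U := (⊤ : X.Opens)) isCompact_univ
  haveI := Fintype.ofFinite κ
  let C := fun k => (exists_cut (W k) (hW k).isCompact).some
  obtain ⟨F, hF, hp⟩ := exists_fp_cover (fun k => (C k).G) (fun k => (C k).fp) Finset.univ.toList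
  choose p hpe using fun k => hp k (Finset.mem_toList.2 (Finset.mem_univ k))
  refine ⟨F, FibPd.isQuasicoherent_of_isFP hF, hF, fun M hM hMfp => ?_⟩
  haveI : M.IsQuasicoherent := hM
  choose gs hgs using fun k => (FittSheaf.finite_sections (LimRank8.isFT_of_isFP M hMfp) ⟨W k, hW k⟩).fg_top
  let J := Σ k, gs k
  choose N hN using fun j : J => exists_map (hW j.1).isCompact (C j.1) M j.2.1
  refine ⟨Finset.univ.sup N, Fintype.card J, fun n m hn hm => ?_⟩
  choose φ hφ using fun j : J => hN j n ((Finset.le_sup (Finset.mem_univ j)).trans hn)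
  let ix : J → Fin m := fun j => Fin.castLE hm (Fintype.equivFin J j)
  have hix : Function.Injective ix := (Fin.castLE_injective hm).comp (Fintype.equivFin J).injective
  let comp : Fin m → (CohB1.tensorPow F n ⟶ M) :=
    Function.extend ix (fun j => tpMap (p j.1) n ≫ φ j) 0
  refine ⟨Sigma.desc comp, epi_of_surjective _ fun x => ?_⟩
  obtain ⟨k, hk⟩ := Opens.mem_iSup.1 (hcov (Opens.mem_top x))
  refine LinearMap.range_eq_top.1 (eq_top_iff.2 ?_)
  rw [← span_germ M (hW k) hk (hgs k), Submodule.span_le]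
  rintro _ ⟨s, hs, rfl⟩
  obtain ⟨g, hg⟩ := hφ ⟨k, s, hs⟩ x hk
  haveI := hpe k
  obtain ⟨w, hw⟩ := surjective_tpMap (surjective_stalkLin_of_epi (p k) x) n g
  refine ⟨stalkLin (Sigma.ι (fun _ : Fin m => CohB1.tensorPow F n) (ix ⟨k, s, hs⟩)) x w, ?_⟩
  rw [← HodgeIndex.stalkLin_comp_apply, Sigma.ι_desc]
  simp only [comp, hix.extend_apply]
  rw [HodgeIndex.stalkLin_comp_apply, hw]
  exact hg

end GrothLib.FPGen24
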