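import Groth.Agent.Lib.FPGen24.Stalk
import Groth.Agent.Lib.FPExt9.Main
import Groth.Agent.Lib.Snapper.Positive
import Groth.Agent.Lib.FittSheaf.Basic
import Groth.Agent.Lib.HodgeIndex.NegCurves
import Groth.Agent.Lib.HodgeIndex.Walls
import Groth.Agent.Lib.GabRos20.Reconstruct
import Groth.Agent.Lib.LimRank8.Basic
import Groth.Agent.Lib.H1Sheaf6.Conormal
import Groth.Agent.Lib.WeakAss.Basic

/-!
# Tensor powers of one finitely presented module generate
-/

set_option autoImplicit false
set_option backward.isDefEq.respectTransparency false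
set_option linter.all false
set_option maxHeartbeats 1000000

universe u

open CategoryTheory CategoryTheory.Limits AlgebraicGeometry TopologicalSpace Opposite TensorProduct

noncomputable section

namespace GrothLib.FPGen24

open GrothLib.QCoh (stalkLin)

variable {X : Scheme.{u}}

theorem scal_germ (x : X) {U : X.Opens} (hx : x ∈ U) (m : Γ(X, U)) :
    scal x ((Coh.structureModule X).presheaf.germ U x hx (show Γ(Coh.structureModule X, U) from m)) =
      X.presheaf.germ U x hx m := by
  rw [scal, LinearEquiv.symm_apply_eq]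
  show _ = X.presheaf.germ U x hx m • ((Coh.structureModule X).presheaf.germ ⊤ x trivial (1 : Γ(X, ⊤)))
  rw [← TopCat.Presheaf.germ_res_apply (Coh.structureModule X).presheaf (homOfLE le_top) x hx
    (show Γ(Coh.structureModule X, ⊤) from (1 : Γ(X, ⊤))), ← Mero.germ_smul]
  exact congrArg ((Coh.structureModule X).presheaf.germ U x hx)
    ((mul_one m).symm.trans (congrArg (m * ·) (map_one (X.presheaf.map _).hom).symm))

theorem span_germ (M : X.Modules) [M.IsQuasicoherent] {W : X.Opens} (hW : IsAffineOpen W) {x : X} (hx : x ∈ W)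
    {S : Set Γ(M, W)} (hS : Submodule.span Γ(X, W) S = ⊤) :
    Submodule.span (X.presheaf.stalk x) (M.presheaf.germ W x hx '' S) = ⊤ := by
  refine eq_top_iff.2 fun v _ => ?_
  obtain ⟨c, z, hc, hz⟩ := WeakAss.exists_smul_eq_germ hW hx v
  have hu := HomSh.isUnit_germ hx hc
  rw [← one_smul (X.presheaf.stalk x) v, ← hu.val_inv_mul, mul_smul, hz]
  refine Submodule.smul_mem _ _ ?_
  have hmem : z ∈ Submodule.span Γ(X, W) S := hS ▸ Submodule.mem_top
  clear hz
  induction hmem using Submodule.span_induction with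
  | mem a ha => exact Submodule.subset_span ⟨a, ha, rfl⟩
  | zero => rw [map_zero]; exact Submodule.zero_mem _
  | add a b _ _ ha hb => rw [map_add]; exact Submodule.add_mem _ ha hb
  | smul r a _ ha => rw [Mero.germ_smul]; exact Submodule.smul_mem _ _ ha

/-- A map to the structure module cutting out an open. -/
structure Cut (U : X.Opens) where
  /-- The module. -/
  G : X.Modules
  /-- The map. -/
  ψ : G ⟶ Coh.structureModule X
  fp : CohB1.IsFP G
  surj : ∀ x ∈ U, Function.Surjective (stalkLin ψ x)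
  proper : ∀ x : X, x ∉ U → val ψ x ≠ ⊤

theorem exists_cut [CompactSpace X] [QuasiSeparatedSpace X] (U : X.Opens) (hU : IsCompact (U : Set X)) :
    Nonempty (Cut U) := by
  let I := Scheme.IdealSheafData.vanishingIdeal (X := X) ⟨(U : Set X)ᶜ, U.isOpen.isClosed_compl⟩
  have hI : (I.support : Set X) = (U : Set X)ᶜ :=
    Scheme.IdealSheafData.coe_support_vanishingIdeal (X := X) ⟨(U : Set X)ᶜ, U.isOpen.isClosed_compl⟩
  haveI hJq : (ClSub.idealMod I).IsQuasicoherent := H1Sheaf6.isQuasicoherent_idealMod I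
  let R := Scheme.Modules.restrictFunctor U.ι
  have hbij : ∀ x ∈ U, Function.Bijective (stalkLin (ClSub.idealModι I) x) := fun x hx =>
    HodgeIndex.stalk_bijective_idealModι I (fun h => (hI.le h) hx)
  haveI : IsIso (R.map (ClSub.idealModι I)) := (OX.isIso_iff _).2 fun y =>
    OX.isIso_stalk_map_restrict U.ι y _ ((ConcreteCategory.isIso_iff_bijective _).2 (hbij (U.ι y) y.2))
  let ε : R.obj (Coh.structureModule X) ≅ Coh.structureModule (U : Scheme.{u}) :=
    (Scheme.Modules.restrictFunctorIsoPullback U.ι).app _ ≪≫ OX.pullUnitIso U.ι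
  obtain ⟨G, φ', e, hG, he⟩ := FPExt9.exists_extension (ClSub.idealMod I) hJq U hU
    (Coh.structureModule (U : Scheme.{u})) (GabRos20.isFP_structureModule _) (ε.inv ≫ inv (R.map (ClSub.idealModι I)))
  haveI : IsIso (R.map φ') := by rw [← he]; infer_instance
  refine ⟨⟨G, φ' ≫ ClSub.idealModι I, hG, fun x hx => ?_, fun x hx htop => ?_⟩⟩
  · intro v
    obtain ⟨w, rfl⟩ := (hbij x hx).2 v
    have he' : Epi ((OX.stalk x).map φ') := OX.epi_stalk_map_of_restrict U.ι φ' ⟨x, hx⟩ inferInstance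
    obtain ⟨u, hu⟩ := (ModuleCat.epi_iff_surjective _).1 he' w
    exact ⟨u, (HodgeIndex.stalkLin_comp_apply _ _ _ _).trans (congrArg _ hu)⟩
  · refine HodgeIndex.not_surjective_idealModι I (show x ∈ I.support from hI.ge hx) fun v => ?_
    obtain ⟨w, hw⟩ := surjective_of_val_eq_top htop v
    exact ⟨stalkLin φ' x w, (HodgeIndex.stalkLin_comp_apply _ _ _ _).symm.trans hw⟩

/-- Sections vanishing on the open are killed by powers of the values. -/
theorem exists_bound {U : X.Opens} (C : Cut U) {W : X.Opens} (hW : IsAffineOpen W) (M : X.Modules)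
    [M.IsQuasicoherent] (s : Γ(M, W)) (hs : ∀ (x : X) (hx : x ∈ W), x ∈ U → M.presheaf.germ W x hx s = 0) :
    ∃ N : ℕ, ∀ (x : X) (hx : x ∈ W), ∀ r ∈ val C.ψ x ^ N, r • M.presheaf.germ W x hx s = 0 := by
  classical
  haveI : C.G.IsQuasicoherent := FibPd.isQuasicoherent_of_isFP C.fp
  obtain ⟨gs, hgs⟩ := (FittSheaf.finite_sections (LimRank8.isFT_of_isFP C.G C.fp) ⟨W, hW⟩).fg_top
  let f : Γ(C.G, W) → Γ(X, W) := fun g => C.ψ.app W g
  let I : Ideal Γ(X, W) := Ideal.span ((gs.image f : Finset Γ(X, W)) : Set Γ(X, W))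
  have hval : ∀ (x : X) (hx : x ∈ W) (g : Γ(C.G, W)),
      scal x (stalkLin C.ψ x (C.G.presheaf.germ W x hx g)) = X.presheaf.germ W x hx (f g) := fun x hx g => by
    rw [QCoh.stalkLin_germ]
    exact scal_germ x hx (f g)
  have hle : ∀ (x : X) (hx : x ∈ W), val C.ψ x ≤ I.map (X.presheaf.germ W x hx).hom := fun x hx => by
    rw [val, LinearMap.range_eq_map, ← span_germ C.G hW hx hgs, Submodule.map_span, Submodule.span_le]
    rintro _ ⟨_, ⟨g, hg, rfl⟩, rfl⟩
    show scal x (stalkLin C.ψ x _) ∈ _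
    rw [hval x hx g]
    exact Ideal.mem_map_of_mem _ (Ideal.subset_span (Finset.mem_coe.2 (Finset.mem_image_of_mem f hg)))
  let ann : Ideal Γ(X, W) := LinearMap.ker (LinearMap.toSpanSingleton Γ(X, W) Γ(M, W) s)
  have hrad : I ≤ ann.radical := by
    refine Ideal.span_le.2 fun a ha => ?_
    obtain ⟨g, -, rfl⟩ := Finset.mem_image.1 (Finset.mem_coe.1 ha)
    have h0 : M.presheaf.map (homOfLE (X.basicOpen_le (f g))).op s = 0 := by
      refine QCoh.section_eq_zero_of_germ M _ fun y hy => ?_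
      rw [TopCat.Presheaf.germ_res_apply]
      have hyW : y ∈ W := X.basicOpen_le (f g) hy
      refine hs y hyW (by_contra fun hyU => C.proper y hyU (Ideal.eq_top_of_isUnit_mem _ ?_
        ((Scheme.mem_basicOpen _ (f g) y hyW).1 hy)))
      rw [← hval y hyW g]
      exact mem_val _ _ _
    obtain ⟨n, hn⟩ := (QCoh.smulLift_and_smulSep_of_isAffineOpen hW M (f g)).2 s h0
    exact ⟨n, hn⟩
  obtain ⟨N, hN⟩ := Ideal.exists_pow_le_of_le_radical_of_fg hrad ⟨gs.image f, rfl⟩
  refine ⟨N, fun x hx r hr => ?_⟩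
  have hr' : r ∈ (I ^ N).map (X.presheaf.germ W x hx).hom := by
    rw [Ideal.map_pow]; exact Ideal.pow_right_mono (hle x hx) N hr
  have hker : (I ^ N).map (X.presheaf.germ W x hx).hom ≤
      LinearMap.ker (LinearMap.toSpanSingleton (X.presheaf.stalk x) _ (M.presheaf.germ W x hx s)) := by
    refine Ideal.map_le_iff_le_comap.2 fun a ha => ?_
    show X.presheaf.germ W x hx a • M.presheaf.germ W x hx s = 0
    rw [← Mero.germ_smul, show a • s = 0 from hN ha, map_zero]
  exact hker hr'

/-- A finitely presented module with compatible maps to `O` and `M`, one a frame on `U`. -/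
structure Lift (U : X.Opens) (M : X.Modules) (s : Γ(M, U)) where
  /-- The module. -/
  N : X.Modules
  /-- The denominator. -/
  π : N ⟶ Coh.structureModule X
  /-- The numerator. -/
  ρ : N ⟶ M
  fp : CohB1.IsFP N
  frame : ∀ (x : X) (hx : x ∈ U), ∃ e : N.presheaf.stalk x, scal x (stalkLin π x e) = 1 ∧
    stalkLin ρ x e = M.presheaf.germ U x hx s ∧ ∀ a, ∃ r : X.presheaf.stalk x, a = r • e

theorem exists_lift [CompactSpace X] [QuasiSeparatedSpace X] (U : X.Opens) (hU : IsCompact (U : Set X))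
    (M : X.Modules) [M.IsQuasicoherent] (s : Γ(M, U)) : Nonempty (Lift U M s) := by
  haveI : (Coh.structureModule X).IsQuasicoherent := GrothLib.WeakAss.isQuasicoherent_structureModule (X := X)
  let F₀ := Coh.structureModule X ⊞ M
  have hF₀ : Coh.IsQCoh F₀ := Cohom.isQuasicoherent_biprod _ M
  let T : X.Opens := U.ι ''ᵁ ⊤
  have hT : T ≤ U := U.ι_image_le ⊤
  let one : Γ(Coh.structureModule X, T) := FinCov.one X T
  let s' : Γ(M, T) := M.presheaf.map (homOfLE hT).op s
  let sec : Γ(F₀, T) := (biprod.inl : Coh.structureModule X ⟶ F₀).app T one + (biprod.inr : M ⟶ F₀).app T s'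
  let φ : Coh.structureModule (U : Scheme.{u}) ⟶ F₀.restrict U.ι :=
    FinCov.homOfSection (show Γ(F₀.restrict U.ι, ⊤) from sec)
  obtain ⟨N, φ', e, hN, he⟩ := FPExt9.exists_extension F₀ hF₀ U hU
    (Coh.structureModule (U : Scheme.{u})) (GabRos20.isFP_structureModule _) φ
  let t : Γ(N, T) := e.inv.app ⊤ (FinCov.one (U : Scheme.{u}) ⊤)
  have ht : φ'.app T t = sec := by
    have h1 := congrArg (fun k => (Scheme.Modules.Hom.app k ⊤) (e.inv.app ⊤ (FinCov.one (U : Scheme.{u}) ⊤))) he
    refine h1.symm.trans ?_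
    show φ.app ⊤ (e.hom.app ⊤ (e.inv.app ⊤ (FinCov.one (U : Scheme.{u}) ⊤))) = sec
    have h2 := congrArg (fun k => (Scheme.Modules.Hom.app k ⊤) (FinCov.one (U : Scheme.{u}) ⊤)) e.inv_hom_id
    refine (congrArg (φ.app ⊤) h2).trans ?_
    refine (FinCov.homOfSection_one _ ⊤).trans ?_
    exact congrArg (fun k => k sec) ((F₀.restrict U.ι).presheaf.map_id _)
  refine ⟨⟨N, φ' ≫ biprod.fst, φ' ≫ biprod.snd, hN, fun x hx => ?_⟩⟩
  have hxT : x ∈ T := ⟨⟨x, hx⟩, trivial, rfl⟩
  have hfst : (φ' ≫ (biprod.fst : F₀ ⟶ _)).app T t = one := by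
    show (biprod.fst : F₀ ⟶ Coh.structureModule X).app T (φ'.app T t) = one
    rw [ht, map_add]
    show ((biprod.inl : _ ⟶ F₀) ≫ biprod.fst).app T one + ((biprod.inr : _ ⟶ F₀) ≫ biprod.fst).app T s' = one
    rw [biprod.inl_fst, biprod.inr_fst]
    exact add_zero _
  have hsnd : (φ' ≫ (biprod.snd : F₀ ⟶ M)).app T t = s' := by
    show (biprod.snd : F₀ ⟶ M).app T (φ'.app T t) = s'
    rw [ht, map_add]
    show ((biprod.inl : _ ⟶ F₀) ≫ biprod.snd).app T one + ((biprod.inr : _ ⟶ F₀) ≫ biprod.snd).app T s' = s'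
    rw [biprod.inl_snd, biprod.inr_snd]
    exact zero_add _
  refine ⟨N.presheaf.germ T x hxT t, ?_, ?_, fun a => ?_⟩
  · rw [QCoh.stalkLin_germ, hfst]
    exact (scal_germ x hxT 1).trans (map_one _)
  · rw [QCoh.stalkLin_germ, hsnd, TopCat.Presheaf.germ_res_apply]
  · obtain ⟨W, hxW, m, rfl⟩ := TopCat.Presheaf.exists_germ_eq N.presheaf a
    let V : (U : Scheme.{u}).Opens := U.ι ⁻¹ᵁ W
    have hxV : x ∈ U.ι ''ᵁ V := ⟨⟨x, hx⟩, hxW, rfl⟩
    have hVW : U.ι ''ᵁ V ≤ W := (U.ι.image_preimage_eq_opensRange_inf W).trans_le inf_le_right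
    have hVT : U.ι ''ᵁ V ≤ T := U.ι.image_mono le_top
    let m' : Γ(N, U.ι ''ᵁ V) := N.presheaf.map (homOfLE hVW).op m
    let r : Γ((U : Scheme.{u}), V) := e.hom.app V m'
    let b : Γ(X, U.ι ''ᵁ V) := (U.ι.appIso V).inv r
    refine ⟨X.presheaf.germ (U.ι ''ᵁ V) x hxV b, ?_⟩
    rw [← TopCat.Presheaf.germ_res_apply N.presheaf (homOfLE hVW) x hxV m,
      ← TopCat.Presheaf.germ_res_apply N.presheaf (homOfLE hVT) x hxV t, ← Mero.germ_smul]
    refine congrArg (N.presheaf.germ (U.ι ''ᵁ V) x hxV) ?_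
    have h1 : e.inv.app V (e.hom.app V m') = m' :=
      congrArg (fun k => (Scheme.Modules.Hom.app k V) m') e.hom_inv_id
    have h2 : (show Γ(Coh.structureModule (U : Scheme.{u}), V) from r) = r • FinCov.one (U : Scheme.{u}) V :=
      (FinCov.smul_one V r).symm
    have h3 : e.inv.app V (FinCov.one (U : Scheme.{u}) V) =
        (show Γ(N.restrict U.ι, V) from N.presheaf.map (homOfLE hVT).op t) := by
      have h4 := ConcreteCategory.congr_hom
        ((Scheme.Modules.Hom.mapPresheaf e.inv).naturality (homOfLE (le_top : V ≤ ⊤)).op) (FinCov.one (U : Scheme.{u}) ⊤)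
      refine Eq.trans ?_ (h4.trans ?_)
      · exact congrArg (e.inv.app V) (map_one ((U : Scheme.{u}).presheaf.map _).hom).symm
      · rfl
    calc m' = e.inv.app V (e.hom.app V m') := h1.symm
      _ = e.inv.app V (r • FinCov.one (U : Scheme.{u}) V) := congrArg (e.inv.app V) h2
      _ = r • (show Γ(N.restrict U.ι, V) from N.presheaf.map (homOfLE hVT).op t) := by
          rw [Scheme.Modules.Hom.app_smul, h3]
      _ = _ := (Scheme.Modules.smul_restrictAppIso_hom_apply _ _ _ _ _ :
          (N.restrictAppIso U.ι V).hom (r • (show Γ(N.restrict U.ι, V) from N.presheaf.map (homOfLE hVT).op t)) = _)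

theorem exists_common_bound {U : X.Opens} (C : Cut U) {W : X.Opens} (hW : IsAffineOpen W) {M : X.Modules}
    [M.IsQuasicoherent] {s : Γ(M, U)} (L : Lift U M s) :
    ∃ c : ℕ, ∀ (x : X), x ∈ W → val C.ψ x ^ c ≤ val L.π x ∧
      ∀ a b : L.N.presheaf.stalk x, ∀ r ∈ val C.ψ x ^ c,
        r • (scal x (stalkLin L.π x a) • stalkLin L.ρ x b - scal x (stalkLin L.π x b) • stalkLin L.ρ x a) = 0 := by
  classical
  haveI : L.N.IsQuasicoherent := FibPd.isQuasicoherent_of_isFP L.fp
  haveI : (Coh.structureModule X).IsQuasicoherent := GrothLib.WeakAss.isQuasicoherent_structureModule (X := X)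
  haveI := QCoh.isQuasicoherent_cokernel L.π
  have hsurj : ∀ x ∈ U, Function.Surjective (stalkLin L.π x) := fun x hx a => by
    obtain ⟨e, he, -⟩ := L.frame x hx
    refine ⟨scal x a • e, (scal x).injective ?_⟩
    rw [map_smul, map_smul, he, smul_eq_mul, mul_one]
  let z : Γ(cokernel L.π, W) := (cokernel.π L.π).app W (FinCov.one X W)
  obtain ⟨N₀, hN₀⟩ := exists_bound C hW (cokernel L.π) z fun x hx hxU => by
    obtain ⟨a, ha⟩ := hsurj x hxU ((Coh.structureModule X).presheaf.germ W x hx (FinCov.one X W))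
    rw [← QCoh.stalkLin_germ, ← ha, ← HodgeIndex.stalkLin_comp_apply, cokernel.condition]
    exact Kodaira.stalkLin_zero_apply _ _ _ _
  obtain ⟨ns, hns⟩ := (FittSheaf.finite_sections (LimRank8.isFT_of_isFP L.N L.fp) ⟨W, hW⟩).fg_top
  let d : Γ(L.N, W) → Γ(L.N, W) → Γ(M, W) := fun a b =>
    (show Γ(X, W) from L.π.app W a) • L.ρ.app W b - (show Γ(X, W) from L.π.app W b) • L.ρ.app W a
  have hd : ∀ (x : X) (hx : x ∈ W) a b, M.presheaf.germ W x hx (d a b) =
      scal x (stalkLin L.π x (L.N.presheaf.germ W x hx a)) • stalkLin L.ρ x (L.N.presheaf.germ W x hx b) -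
        scal x (stalkLin L.π x (L.N.presheaf.germ W x hx b)) • stalkLin L.ρ x (L.N.presheaf.germ W x hx a) :=
    fun x hx a b => by
      simp only [d]
      rw [map_sub, Mero.germ_smul, Mero.germ_smul, QCoh.stalkLin_germ, QCoh.stalkLin_germ, QCoh.stalkLin_germ,
        QCoh.stalkLin_germ, scal_germ x hx (L.π.app W a), scal_germ x hx (L.π.app W b)]
  choose N₁ hN₁ using fun p : Γ(L.N, W) × Γ(L.N, W) => exists_bound C hW M (d p.1 p.2) fun x hx hxU => by
    obtain ⟨e, he, -, hcyc⟩ := L.frame x hxU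
    obtain ⟨α, hα⟩ := hcyc (L.N.presheaf.germ W x hx p.1)
    obtain ⟨β, hβ⟩ := hcyc (L.N.presheaf.germ W x hx p.2)
    rw [hd x hx, hα, hβ, map_smul, map_smul, map_smul, map_smul, map_smul, map_smul, he, smul_smul, smul_smul,
      sub_eq_zero]
    simp only [smul_eq_mul, mul_one, mul_comm]
  refine ⟨max N₀ ((ns ×ˢ ns).sup N₁), fun x hx => ⟨fun r hr => ?_, fun a b r hr => ?_⟩⟩
  · have h := hN₀ x hx r (Ideal.pow_le_pow_right (le_max_left _ _) hr)
    rw [← QCoh.stalkLin_germ, ← map_smul] at h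
    obtain ⟨w, hw⟩ : ∃ w, stalkLin L.π x w =
        r • (Coh.structureModule X).presheaf.germ W x hx (FinCov.one X W) := by
      have he := (OX.exact_iff (ShortComplex.mk L.π (cokernel.π L.π) (cokernel.condition _))).1
        (ShortComplex.exact_cokernel L.π) x
      rw [ShortComplex.moduleCat_exact_iff] at he
      exact he _ h
    refine ⟨w, ?_⟩
    show scal x (stalkLin L.π x w) = r
    rw [hw, map_smul, show scal x ((Coh.structureModule X).presheaf.germ W x hx (FinCov.one X W)) = 1 from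
      (scal_germ x hx 1).trans (map_one _), smul_eq_mul, mul_one]
  · have hspan := span_germ L.N hW hx hns
    have ha : a ∈ Submodule.span (X.presheaf.stalk x) (L.N.presheaf.germ W x hx '' (ns : Set Γ(L.N, W))) :=
      hspan ▸ Submodule.mem_top
    have hb : b ∈ Submodule.span (X.presheaf.stalk x) (L.N.presheaf.germ W x hx '' (ns : Set Γ(L.N, W))) :=
      hspan ▸ Submodule.mem_top
    induction ha, hb using Submodule.span_induction₂ with
    | mem_mem a b ha hb =>
      obtain ⟨a, ha, rfl⟩ := ha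
      obtain ⟨b, hb, rfl⟩ := hb
      rw [← hd x hx]
      exact hN₁ (a, b) x hx r (Ideal.pow_le_pow_right ((Finset.le_sup (f := N₁)
        (Finset.mem_product.2 (show (a, b).1 ∈ ns ∧ (a, b).2 ∈ ns from ⟨ha, hb⟩))).trans (le_max_right _ _)) hr)
    | zero_left b hb => simp
    | zero_right a ha => simp
    | add_left a a' b _ _ _ h h' =>
      simp only [map_add, add_smul, smul_add]
      rw [add_sub_add_comm, smul_add, h, h', add_zero]
    | add_right a b b' _ _ _ h h' =>
      simp only [map_add, add_smul, smul_add]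
      rw [add_sub_add_comm, smul_add, h, h', add_zero]
    | smul_left c a b _ _ h =>
      simp only [map_smul, smul_eq_mul, mul_smul]
      rw [smul_comm (scal x (stalkLin L.π x b)) c, ← smul_sub, smul_comm r c, h, smul_zero]
    | smul_right c a b _ _ h =>
      simp only [map_smul, smul_eq_mul, mul_smul]
      rw [smul_comm (scal x (stalkLin L.π x a)) c, ← smul_sub, smul_comm r c, h, smul_zero]

end GrothLib.FPGen24
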